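import Cfsg.Agent.M24P11.Five

/-!
# Sylow 11-subgroups in a simple group of order `244823040`: `e = 5`, `|K| = 24, 288`
-/

set_option autoImplicit false
set_option linter.unusedSectionVars false

namespace Cfsg.Agent.M24P11.FiveFinal

open Cfsg Subgroup Cfsg.Agent.Characters.Core
open Cfsg.Agent.Blocks.Basic (irr_one_eq_charDegree)
open Cfsg.Agent.SmallSimple Cfsg.Agent.SmallSimple.PrimeLocal Cfsg.Agent.M22.NonSelfCent
open Cfsg.Agent.M23.Block Cfsg.Agent.M23.Adm Cfsg.Agent.SporadicA.M24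
open Cfsg.Agent.M24P11.Common Cfsg.Agent.M24P11.Quads Cfsg.Agent.M24P11.Five

universe u

/-! ### Degrees -/

/-- The test for a degree `n`: `n ∣ D`, `n` is `0, ±1, ±11` modulo 23. -/
def ok (D : ℕ) (L ex : List ℕ) (n : ℕ) : Bool :=
  !(D % n == 0) || !([0, 1, 22, 11, 12].contains (n % 23)) ||
    (n % 23 == 0 && L.contains (n / 23)) || ex.contains n

theorem of_ok {D : ℕ} {L ex : List ℕ} {n : ℕ} (h : ok D L ex n = true) (hd : n ∣ D)
    (hn : n % 23 = 0 ∨ n % 23 = 1 ∨ n % 23 = 22 ∨ n % 23 = 11 ∨ n % 23 = 12) :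
    (n % 23 = 0 ∧ n / 23 ∈ L) ∨ n ∈ ex := by
  unfold ok at h
  rw [Nat.mod_eq_zero_of_dvd hd] at h
  rcases hn with hn | hn | hn | hn | hn <;> simp [hn] at h ⊢ <;> exact h

def zeros : List ℕ := [5, 6, 16, 28, 60, 72, 105, 126, 160, 192, 280, 336]

theorem ne24' : ∀ a < 1423, 2 ≤ a → (ok 927360 L24 [45, 252] (11 * a + 1) &&
    ok 927360 L24 [45, 252] (11 * a + 10)) = true := by
  decide +kernel

theorem x24' : ∀ a < 1423, 2 ≤ a → (ok 927360 zeros [126, 160, 896, 1920] (11 * a + 5) &&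
    ok 927360 zeros [126, 160, 896, 1920] (11 * a + 6)) = true := by
  decide +kernel

theorem ne288' : ∀ a < 1423, 2 ≤ a → (ok 77280 L288 [] (11 * a + 1) &&
    ok 77280 L288 [] (11 * a + 10)) = true := by
  decide +kernel

theorem x288' : ∀ a < 1423, 2 ≤ a → (ok 77280 zeros [160] (11 * a + 5) &&
    ok 77280 zeros [160] (11 * a + 6)) = true := by
  decide +kernel

theorem ne24 {a n : ℕ} (ha : a < 1423) (ha2 : 2 ≤ a) (hn : n = 11 * a + 1 ∨ n = 11 * a + 10)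
    (hd : n ∣ 927360)
    (h : n % 23 = 0 ∨ n % 23 = 1 ∨ n % 23 = 22 ∨ n % 23 = 11 ∨ n % 23 = 12) :
    (n % 23 = 0 ∧ n / 23 ∈ L24) ∨ n = 45 ∨ n = 252 := by
  have h1 := ne24' a ha ha2
  rw [Bool.and_eq_true] at h1
  have h2 : ok 927360 L24 [45, 252] n = true := by
    rcases hn with rfl | rfl
    · exact h1.1
    · exact h1.2
  simpa using of_ok h2 hd h

theorem x24 {a n : ℕ} (ha : a < 1423) (ha2 : 2 ≤ a) (hn : n = 11 * a + 5 ∨ n = 11 * a + 6)
    (hd : n ∣ 927360)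
    (h : n % 23 = 0 ∨ n % 23 = 1 ∨ n % 23 = 22 ∨ n % 23 = 11 ∨ n % 23 = 12) :
    n % 23 = 0 ∨ n = 126 ∨ n = 160 ∨ n = 896 ∨ n = 1920 := by
  have h1 := x24' a ha ha2
  rw [Bool.and_eq_true] at h1
  have h2 : ok 927360 zeros [126, 160, 896, 1920] n = true := by
    rcases hn with rfl | rfl
    · exact h1.1
    · exact h1.2
  rcases of_ok h2 hd h with h3 | h3
  · exact Or.inl h3.1
  · right; simpa using h3

theorem ne288 {a n : ℕ} (ha : a < 1423) (ha2 : 2 ≤ a) (hn : n = 11 * a + 1 ∨ n = 11 * a + 10)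
    (hd : n ∣ 77280)
    (h : n % 23 = 0 ∨ n % 23 = 1 ∨ n % 23 = 22 ∨ n % 23 = 11 ∨ n % 23 = 12) :
    n % 23 = 0 ∧ n / 23 ∈ L288 := by
  have h1 := ne288' a ha ha2
  rw [Bool.and_eq_true] at h1
  have h2 : ok 77280 L288 [] n = true := by
    rcases hn with rfl | rfl
    · exact h1.1
    · exact h1.2
  simpa using of_ok h2 hd h

theorem x288 {a n : ℕ} (ha : a < 1423) (ha2 : 2 ≤ a) (hn : n = 11 * a + 5 ∨ n = 11 * a + 6)
    (hd : n ∣ 77280)
    (h : n % 23 = 0 ∨ n % 23 = 1 ∨ n % 23 = 22 ∨ n % 23 = 11 ∨ n % 23 = 12) :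
    n % 23 = 0 ∨ n = 160 := by
  have h1 := x288' a ha ha2
  rw [Bool.and_eq_true] at h1
  have h2 : ok 77280 zeros [160] n = true := by
    rcases hn with rfl | rfl
    · exact h1.1
    · exact h1.2
  rcases of_ok h2 hd h with h3 | h3
  · exact Or.inl h3.1
  · right; simpa using h3

theorem dvd_of_mul {n k D : ℕ} (hk : D * (11 * k) = 244823040) (h : n * (11 * k) ∣ 244823040) :
    n ∣ D := by
  have hpos : 0 < 11 * k := by
    rcases Nat.eq_zero_or_pos (11 * k) with h0 | h0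
    · rw [h0, mul_zero] at hk; omega
    · exact h0
  rw [← hk] at h
  exact Nat.dvd_of_mul_dvd_mul_right hpos h

theorem adm_cases {n : ℕ} {s : ℤ} (h : AdmAt n s) :
    n % 23 = 0 ∨ n % 23 = 1 ∨ n % 23 = 22 ∨ n % 23 = 11 ∨ n % 23 = 12 := by
  unfold AdmAt at h; omega

variable {G : Type u} [Group G] [Finite G] [IsSimpleGroup G]
variable {P : Sylow 11 G} {K : Subgroup G}

/-- An involution of `K` commuting with an element of order 5. -/
theorem exists_invol (h : IsLocal 11 P 5 K) (hk : Nat.card K = 24) :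
    ∃ t ∈ K, t * t = 1 ∧ t ≠ 1 ∧ ∃ y : G, orderOf y = 5 ∧ t * y = y * t := by
  have hp5 : Fact (Nat.Prime 5) := ⟨by norm_num⟩
  have hp2 : Fact (Nat.Prime 2) := ⟨by norm_num⟩
  have h5 : 5 ∣ Nat.card (normalizer ((P : Subgroup G) : Set G)) := by
    have h1 := h.card_normalizer
    have h2 : Nat.card (normalizer ((P : Subgroup G) : Set G)) = 11 * 5 * Nat.card K := h1
    rw [h2]
    exact ⟨11 * Nat.card K, by ring⟩
  obtain ⟨⟨y, hy⟩, hoy⟩ := exists_prime_orderOf_dvd_card' 5 h5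
  have hoy' : orderOf y = 5 := by rwa [← Subgroup.orderOf_coe] at hoy
  obtain ⟨t, ht, hot, hyt⟩ := exists_commuting (q := 5) (r := 2) K (h.normalizer_le hy) hoy'
    (by rw [hk]; norm_num) (by rw [hk]; norm_num) (fun j hj0 hj => by
      rw [hk] at hj
      have hj3 : j ≤ 3 := by
        by_contra hcon
        push Not at hcon
        have h1 : 2 ^ 4 ∣ 24 := (pow_dvd_pow 2 hcon).trans hj
        norm_num at h1
      interval_cases j <;> norm_num)
  refine ⟨t, ht, ?_, ?_, y, hoy', hyt.symm⟩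
  · rw [← pow_two, ← hot]; exact pow_orderOf_eq_one t
  · rintro rfl
    rw [orderOf_one] at hot
    norm_num at hot

/-- Pure arithmetic: the relation over `P₂₃`. -/
theorem sum_nonneg_eq {ι : Type*} (T : Finset ι) (w : ι → ℤ) (hw : ∀ i ∈ T, 0 ≤ w i) {z : ℤ}
    (h : 22 + ∑ i ∈ T, w i = z) (hz : z ≤ 22) : z = 22 ∧ ∀ i ∈ T, w i = 0 := by
  have h1 : 0 ≤ ∑ i ∈ T, w i := Finset.sum_nonneg hw
  have h2 : ∑ i ∈ T, w i = 0 := by omega
  exact ⟨by omega, (Finset.sum_eq_zero_iff_of_nonneg hw).1 h2⟩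

theorem five24 (hcard : Nat.card G = 244823040) (h : IsLocal 11 P 5 K)
    (hk : Nat.card K = 24) : False := by
  classical
  have hp : Fact (Nat.Prime 11) := ⟨by norm_num⟩
  have hP := card_eleven hcard P
  have hK1 : Nat.card K ≠ 1 := by rw [hk]; norm_num
  obtain ⟨M, NE, X, ε, d, S, B⟩ := exists_blk_of_local hcard (by norm_num) hP h
    (t := 2) (by norm_num)
  let P23 : Sylow 23 G := default
  obtain ⟨t, ht, ht2, ht1, y, hy, hty⟩ := exists_invol h hk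
  choose v hv1 hv2 using fun χ : IrrCharacter G => Adm.adm hcard P23 χ
  obtain ⟨Θ, hΘ⟩ : ∃ Θ, Θ ∈ X := by
    apply Finset.card_pos.1
    rw [B.kb.card_X]; norm_num
  have hrel := sum_V_eq hcard P23 B hΘ (v := v) hv1
  have hv22 : v ⟨1, isIrr_one⟩ = 22 := by
    have := (hv1 ⟨1, isIrr_one⟩).symm.trans (v_one hcard P23)
    exact_mod_cast this
  rw [← Finset.add_sum_erase _ _ B.kb.one_mem, B.kb.eps_one, hv22, one_mul] at hrel
  have hNE : ∀ χ ∈ NE.erase ⟨1, isIrr_one⟩,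
      (ε χ * v χ = 0 ∧ ∃ q ∈ L24, charDegree (χ : G → ℂ) = 23 * q) ∨ ε χ * v χ = 22 := by
    intro χ hχ
    have hχN := Finset.mem_of_mem_erase hχ
    have hχ1 := Finset.ne_of_mem_erase hχ
    obtain ⟨s, a, hs1, hs2, hs3, hs4, hs5, hs6, hinv⟩ := ne_facts hcard P23 h hK1 B hχN hχ1
    rw [hk] at hs3
    have h1 := ne24 (a := a) (by omega) hs5 (n := charDegree (χ : G → ℂ)) (by omega)
      (dvd_of_mul (by norm_num) hs3) (adm_cases hs2)
    have hv := hv2 χ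
    rcases h1 with ⟨h1, h2⟩ | h1 | h1
    · left
      have hv0 : v χ = 0 := by unfold AdmAt at hv; omega
      refine ⟨by rw [hv0, mul_zero], _, h2, by omega⟩
    · exfalso
      obtain ⟨m, hm0, hma, hm⟩ := hinv t ht ht2 ht1
      have h5 := five_dvd hcard χ (by rw [h1]; norm_num) ht2 ht1 hy hty hm
      rw [h1] at h5 hs6
      omega
    · right
      have hv0 : v χ = -22 := by unfold AdmAt at hv; omega
      have he : ε χ = -1 := by omega
      rw [hv0, he]; norm_num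
  have hXv : d * v Θ ≤ 22 ∧ (d * v Θ = 22 → d = -1 ∧ charDegree (Θ : G → ℂ) = 160) := by
    obtain ⟨s, a, hs1, hs2, hs3, hs4, hs5, hs6, hinv⟩ := x_facts hcard P23 h hK1 B hΘ
    rw [hk] at hs3
    have h1 := x24 (a := a) (by omega) hs5 (n := charDegree (Θ : G → ℂ)) (by omega)
      (dvd_of_mul (by norm_num) hs3) (adm_cases hs2)
    have hv := hv2 Θ
    unfold AdmAt at hv
    rcases hs6 with ⟨rfl, hs6⟩ | ⟨rfl, hs6⟩ <;> omega
  obtain ⟨h22, hzero⟩ := sum_nonneg_eq _ _ (fun χ hχ => by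
    rcases hNE χ hχ with h1 | h1 <;> omega) hrel hXv.1
  obtain ⟨hd, h160⟩ := hXv.2 h22
  obtain ⟨q1, m1, q2, m2, q3, m3, q4, m4, u1, u2, u3, u4, f, s1, s2, s3, hpn, hf0, hf7, p1, p2, p3,
    b1, b2, b3, b4, hl, hr, hfive⟩ := system hcard h hK1 B hΘ h160 hd (L := L24) (fun χ h1 h2 => by
      rcases hNE χ (Finset.mem_erase.2 ⟨h2, h1⟩) with h3 | h3
      · exact h3.2
      · have := hzero χ (Finset.mem_erase.2 ⟨h2, h1⟩)
        omega) ht ht2 ht1
  obtain ⟨f1, f2, f3, f4, f5⟩ := hfive ⟨y, hy, hty⟩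
  rcases quads24 q1 m1 q2 m2 s1 q3 m3 s2 q4 m4 s3 hpn with hm | hm
  · exact false_of_Q288 hm hf0 hf7 p1 p2 p3 b1 b2 b3 b4 hl hr
  · obtain rfl : f = 5 := by omega
    exact false_of_Q24 hm p1 b1 b2 b3 b4 f1 f2 f3 f4 (by exact_mod_cast hl) (by exact_mod_cast hr)

theorem five288 (hcard : Nat.card G = 244823040) (h : IsLocal 11 P 5 K)
    (hk : Nat.card K = 288) : False := by
  classical
  have hp : Fact (Nat.Prime 11) := ⟨by norm_num⟩
  have hp2 : Fact (Nat.Prime 2) := ⟨by norm_num⟩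
  have hP := card_eleven hcard P
  have hK1 : Nat.card K ≠ 1 := by rw [hk]; norm_num
  obtain ⟨M, NE, X, ε, d, S, B⟩ := exists_blk_of_local hcard (by norm_num) hP h
    (t := 2) (by norm_num)
  let P23 : Sylow 23 G := default
  obtain ⟨⟨t, ht⟩, hot⟩ := exists_prime_orderOf_dvd_card' (G := K) 2 (by rw [hk]; norm_num)
  have hot' : orderOf t = 2 := by rwa [← Subgroup.orderOf_coe] at hot
  have ht2 : t * t = 1 := by rw [← pow_two, ← hot']; exact pow_orderOf_eq_one t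
  have ht1 : t ≠ 1 := by rintro rfl; rw [orderOf_one] at hot'; norm_num at hot'
  choose v hv1 hv2 using fun χ : IrrCharacter G => Adm.adm hcard P23 χ
  obtain ⟨Θ, hΘ⟩ : ∃ Θ, Θ ∈ X := by
    apply Finset.card_pos.1
    rw [B.kb.card_X]; norm_num
  have hrel := sum_V_eq hcard P23 B hΘ (v := v) hv1
  have hv22 : v ⟨1, isIrr_one⟩ = 22 := by
    have := (hv1 ⟨1, isIrr_one⟩).symm.trans (v_one hcard P23)
    exact_mod_cast this
  rw [← Finset.add_sum_erase _ _ B.kb.one_mem, B.kb.eps_one, hv22, one_mul] at hrel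
  have hNE : ∀ χ ∈ NE.erase ⟨1, isIrr_one⟩,
      ε χ * v χ = 0 ∧ ∃ q ∈ L288, charDegree (χ : G → ℂ) = 23 * q := by
    intro χ hχ
    have hχN := Finset.mem_of_mem_erase hχ
    have hχ1 := Finset.ne_of_mem_erase hχ
    obtain ⟨s, a, hs1, hs2, hs3, hs4, hs5, hs6, hinv⟩ := ne_facts hcard P23 h hK1 B hχN hχ1
    rw [hk] at hs3
    obtain ⟨h1, h2⟩ := ne288 (a := a) (by omega) hs5 (n := charDegree (χ : G → ℂ)) (by omega)
      (dvd_of_mul (by norm_num) hs3) (adm_cases hs2)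
    have hv := hv2 χ
    have hv0 : v χ = 0 := by unfold AdmAt at hv; omega
    exact ⟨by rw [hv0, mul_zero], _, h2, by omega⟩
  have hXv : d * v Θ ≤ 22 ∧ (d * v Θ = 22 → d = -1 ∧ charDegree (Θ : G → ℂ) = 160) := by
    obtain ⟨s, a, hs1, hs2, hs3, hs4, hs5, hs6, hinv⟩ := x_facts hcard P23 h hK1 B hΘ
    rw [hk] at hs3
    have h1 := x288 (a := a) (by omega) hs5 (n := charDegree (Θ : G → ℂ)) (by omega)
      (dvd_of_mul (by norm_num) hs3) (adm_cases hs2)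
    have hv := hv2 Θ
    unfold AdmAt at hv
    rcases hs6 with ⟨rfl, hs6⟩ | ⟨rfl, hs6⟩ <;> omega
  obtain ⟨h22, -⟩ := sum_nonneg_eq _ _ (fun χ hχ => (hNE χ hχ).1.ge) hrel hXv.1
  obtain ⟨hd, h160⟩ := hXv.2 h22
  obtain ⟨q1, m1, q2, m2, q3, m3, q4, m4, u1, u2, u3, u4, f, s1, s2, s3, hpn, hf0, hf7, p1, p2, p3,
    b1, b2, b3, b4, hl, hr, -⟩ := system hcard h hK1 B hΘ h160 hd (L := L288) (fun χ h1 h2 =>
      (hNE χ (Finset.mem_erase.2 ⟨h2, h1⟩)).2) ht ht2 ht1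
  exact false_of_Q288 (quads288 q1 m1 q2 m2 s1 q3 m3 s2 q4 m4 s3 hpn) hf0 hf7 p1 p2 p3 b1 b2 b3 b4
    hl hr

end Cfsg.Agent.M24P11.FiveFinal
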