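import Mathlib

/-!
# Diophantine systems for the principal 11-block, order `244823040`

Each lemma excludes one multiset of degrees.
-/

set_option autoImplicit false

namespace Cfsg.Agent.M24P11.Arith

/-! ### Sums of squares modulo small primes -/

theorem sq3 {x y : ℕ} (h : (x ^ 2 + y ^ 2) % 3 = 0) : x % 3 = 0 ∧ y % 3 = 0 := by
  have hx : x % 3 = 0 ∨ x % 3 = 1 ∨ x % 3 = 2 := by omega
  have hy : y % 3 = 0 ∨ y % 3 = 1 ∨ y % 3 = 2 := by omega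
  rw [Nat.add_mod, Nat.pow_mod, Nat.pow_mod y] at h
  rcases hx with hx | hx | hx <;> rcases hy with hy | hy | hy <;> rw [hx, hy] at h <;>
    revert h <;> simp_all

theorem sq7 {x y : ℕ} (h : (x ^ 2 + y ^ 2) % 7 = 0) : x % 7 = 0 ∧ y % 7 = 0 := by
  have hx : x % 7 = 0 ∨ x % 7 = 1 ∨ x % 7 = 2 ∨ x % 7 = 3 ∨ x % 7 = 4 ∨ x % 7 = 5 ∨
    x % 7 = 6 := by omega
  have hy : y % 7 = 0 ∨ y % 7 = 1 ∨ y % 7 = 2 ∨ y % 7 = 3 ∨ y % 7 = 4 ∨ y % 7 = 5 ∨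
    y % 7 = 6 := by omega
  rw [Nat.add_mod, Nat.pow_mod, Nat.pow_mod y] at h
  rcases hx with hx | hx | hx | hx | hx | hx | hx <;>
    rcases hy with hy | hy | hy | hy | hy | hy | hy <;> rw [hx, hy] at h <;>
    revert h <;> simp_all

/-- `3` is not a square modulo 7. -/
theorem sq7' {x y : ℕ} (h : (x ^ 2 + 4 * y ^ 2) % 7 = 0) : x % 7 = 0 ∧ y % 7 = 0 := by
  have h1 : (x ^ 2 + (2 * y) ^ 2) % 7 = 0 := by
    rw [mul_pow]; exact h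
  have := sq7 h1
  omega

/-! ### The multisets without a degree `1035`, `3312`, `5796`, `7360`, `8832` -/

theorem a1 {u1 u2 u3 u4 f : ℕ} (hf0 : 0 < f) (hf : f ≤ 7) (p1 : 0 < u1) (b1 : 22 * u1 ≤ 22)
    (p2 : 0 < u2) (b2 : 22 * u2 ≤ 22) (p3 : 0 < u3) (b3 : 22 * u3 ≤ 22)
    (hl : u1 + u2 + u3 + f = u4)
    (hq : 160 * u1 ^ 2 + 160 * u2 ^ 2 + 160 * u3 ^ 2 + 23 * f ^ 2 = 16 * u4 ^ 2) : False := by
  obtain rfl : u1 = 1 := by omega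
  obtain rfl : u2 = 1 := by omega
  obtain rfl : u3 = 1 := by omega
  subst hl
  interval_cases f <;> omega

theorem a2 {x1 x2 x3 x4 f : ℕ} (hf0 : 0 < f) (hf : f ≤ 7)
    (hq : 3360 * x1 + 3360 * x2 + 280 * x3 + 483 * f ^ 2 = 160 * x4) : False := by
  interval_cases f <;> omega

theorem a3_chk : ∀ a < 11, ∀ b < 11,
    ¬ 480 + 40 * (a + b - 5) ^ 2 + 1104 = 48 * a ^ 2 + 48 * b ^ 2 := by
  decide +kernel

theorem a3 {u1 u2 u3 u4 f : ℕ} (hf0 : 0 < f) (hf : f ≤ 7) (p1 : 0 < u1) (b1 : 22 * u1 ≤ 22)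
    (b2 : 22 * u2 ≤ 229) (b3 : 22 * u3 ≤ 229)
    (hl : u1 + u4 + f = u2 + u3)
    (hq : 480 * u1 ^ 2 + 40 * u4 ^ 2 + 69 * f ^ 2 = 48 * u2 ^ 2 + 48 * u3 ^ 2) : False := by
  obtain rfl : u1 = 1 := by omega
  have h4 : f = 4 := by
    interval_cases f <;> omega
  subst h4
  obtain rfl : u4 = u2 + u3 - 5 := by omega
  exact a3_chk u2 (by omega) u3 (by omega) (by omega)

theorem a4_chk : ∀ a < 13, ∀ b < 13,
    ¬ 480 + 40 * a ^ 2 + 40 * b ^ 2 + 1725 = 15 * (a + b + 6) ^ 2 := by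
  decide +kernel

theorem a4 {u1 u2 u3 u4 f : ℕ} (hf0 : 0 < f) (hf : f ≤ 7) (p1 : 0 < u1) (b1 : 22 * u1 ≤ 22)
    (b2 : 22 * u2 ≤ 275) (b3 : 22 * u3 ≤ 275)
    (hl : u1 + u2 + u3 + f = u4)
    (hq : 480 * u1 ^ 2 + 40 * u2 ^ 2 + 40 * u3 ^ 2 + 69 * f ^ 2 = 15 * u4 ^ 2) : False := by
  obtain rfl : u1 = 1 := by omega
  have h4 : f = 5 := by
    interval_cases f <;> omega
  subst h4
  obtain rfl : u4 = u2 + u3 + 6 := by omega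
  exact a4_chk u2 (by omega) u3 (by omega) (by omega)

theorem a5_chk : ∀ a < 34, ∀ b < 34,
    ¬ 1120 + 20 * (a + b - 6) ^ 2 + 4025 = 35 * a ^ 2 + 35 * b ^ 2 := by
  decide +kernel

theorem a5 {u1 u2 u3 u4 f : ℕ} (hf0 : 0 < f) (hf : f ≤ 7) (p1 : 0 < u1) (b1 : 22 * u1 ≤ 22)
    (b2 : 22 * u2 ≤ 735) (b3 : 22 * u3 ≤ 735)
    (hl : u1 + u4 + f = u2 + u3)
    (hq : 1120 * u1 ^ 2 + 20 * u4 ^ 2 + 161 * f ^ 2 = 35 * u2 ^ 2 + 35 * u3 ^ 2) : False := by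
  obtain rfl : u1 = 1 := by omega
  have h4 : f = 5 := by
    interval_cases f <;> omega
  subst h4
  obtain rfl : u4 = u2 + u3 - 6 := by omega
  exact a5_chk u2 (by omega) u3 (by omega) (by omega)

theorem a6_chk : ∀ f < 8, ∀ a < 9, ∀ b < 9, 
    ¬ 3360 + 60 * (7 * a) ^ 2 + 60 * (7 * b) ^ 2 + 483 * (f + 1) ^ 2 =
      28 * (7 * a + 7 * b + (f + 1) + 1) ^ 2 := by
  decide +kernel

theorem a6 {u1 u2 u3 u4 f : ℕ} (hf0 : 0 < f) (hf : f ≤ 7) (p1 : 0 < u1) (b1 : 22 * u1 ≤ 22)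
    (b2 : 22 * u2 ≤ 1287) (b3 : 22 * u3 ≤ 1287)
    (hl : u1 + u2 + u3 + f = u4)
    (hq : 3360 * u1 ^ 2 + 60 * u2 ^ 2 + 60 * u3 ^ 2 + 483 * f ^ 2 = 28 * u4 ^ 2) : False := by
  obtain rfl : u1 = 1 := by omega
  obtain ⟨h2, h3⟩ := sq7 (x := u2) (y := u3) (by omega)
  obtain ⟨a, rfl⟩ := Nat.dvd_of_mod_eq_zero h2
  obtain ⟨b, rfl⟩ := Nat.dvd_of_mod_eq_zero h3
  obtain ⟨g, rfl⟩ : ∃ g, f = g + 1 := ⟨f - 1, by omega⟩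
  obtain rfl : u4 = 7 * a + 7 * b + (g + 1) + 1 := by omega
  exact a6_chk g (by omega) a (by omega) b (by omega) (by omega)

theorem a7_chk : ∀ g < 2, ∀ v < 42, ∀ s < 196,
    ¬ 1120 + 15 * (v + s - (g + 1)) ^ 2 + 161 * (3 * g + 2) ^ 2 = 84 * v ^ 2 + 18 * s ^ 2 := by
  decide +kernel

theorem a7 {u1 u2 u3 u4 f : ℕ} (hf0 : 0 < f) (hf : f ≤ 7) (p1 : 0 < u1) (b1 : 22 * u1 ≤ 22)
    (b2 : 22 * u2 ≤ 2759) (b3 : 22 * u3 ≤ 12879)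
    (hl : u1 + u4 + f = u2 + u3)
    (hq : 3360 * u1 ^ 2 + 5 * u4 ^ 2 + 483 * f ^ 2 = 28 * u2 ^ 2 + 6 * u3 ^ 2) : False := by
  obtain rfl : u1 = 1 := by omega
  obtain ⟨h2, h4⟩ := sq3 (x := u2) (y := u4) (by omega)
  obtain ⟨v, rfl⟩ := Nat.dvd_of_mod_eq_zero h2
  obtain ⟨w, rfl⟩ := Nat.dvd_of_mod_eq_zero h4
  have hq1 : 1120 + 15 * w ^ 2 + 161 * f ^ 2 = 84 * v ^ 2 + 2 * u3 ^ 2 := by
    have e1 : (3 * w) ^ 2 = 9 * w ^ 2 := by ring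
    have e2 : (3 * v) ^ 2 = 9 * v ^ 2 := by ring
    rw [e1, e2] at hq
    omega
  have h3 : u3 % 3 = 0 ∧ f % 3 ≠ 0 := by
    have e3 : (1 + 2 * f ^ 2) % 3 = (2 * u3 ^ 2) % 3 := by omega
    have hx : f % 3 = 0 ∨ f % 3 = 1 ∨ f % 3 = 2 := by omega
    have hy : u3 % 3 = 0 ∨ u3 % 3 = 1 ∨ u3 % 3 = 2 := by omega
    rw [Nat.add_mod, Nat.mul_mod 2 (f ^ 2), Nat.mul_mod 2 (u3 ^ 2), Nat.pow_mod f,
      Nat.pow_mod u3] at e3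
    rcases hx with hx | hx | hx <;> rcases hy with hy | hy | hy <;> rw [hx, hy] at e3 <;>
      revert e3 <;> simp_all
  obtain ⟨s, rfl⟩ := Nat.dvd_of_mod_eq_zero h3.1
  obtain ⟨g, rfl⟩ : ∃ g, f = 3 * g + 2 := ⟨(f - 2) / 3, by omega⟩
  obtain rfl : w = v + s - (g + 1) := by omega
  have e4 : (3 * s) ^ 2 = 9 * s ^ 2 := by ring
  rw [e4] at hq1
  exact a7_chk g (by omega) v (by omega) s (by omega) (by omega)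

theorem a8_chk : ∀ a < 11, ∀ b < 13, ∀ c < 13,
    ¬ 280 * b ^ 2 + 280 * c ^ 2 + 7728 = 336 * a ^ 2 + 160 * (b + c + 4 - a) ^ 2 := by
  decide +kernel

theorem a8 {u1 u2 u3 u4 f : ℕ} (hf0 : 0 < f) (hf : f ≤ 7) (b1 : 22 * u1 ≤ 229)
    (b2 : 22 * u2 ≤ 275) (b3 : 22 * u3 ≤ 275)
    (hl : u2 + u3 + f = u1 + u4)
    (hq : 280 * u2 ^ 2 + 280 * u3 ^ 2 + 483 * f ^ 2 = 336 * u1 ^ 2 + 160 * u4 ^ 2) : False := by
  have h4 : f = 4 := by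
    interval_cases f <;> omega
  subst h4
  obtain rfl : u4 = u2 + u3 + 4 - u1 := by omega
  exact a8_chk u1 (by omega) u2 (by omega) u3 (by omega) (by omega)

theorem a9_chk : ∀ g < 7, ∀ a < 11, ∀ b < 9,
    ¬ 60 * (7 * b) ^ 2 + 483 * (g + 1) ^ 2 =
      336 * a ^ 2 + 70560 + 105 * (7 * b + (g + 1) - a - 21) ^ 2 := by
  decide +kernel

theorem a9 {u1 u2 u3 u4 f : ℕ} (hf0 : 0 < f) (hf : f ≤ 7) (b1 : 22 * u1 ≤ 229)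
    (p2 : 0 < u2) (b2 : 22 * u2 ≤ 482) (b4 : 22 * u4 ≤ 1287)
    (hl : u4 + f = u1 + u2 + u3)
    (hq : 60 * u4 ^ 2 + 483 * f ^ 2 = 336 * u1 ^ 2 + 160 * u2 ^ 2 + 105 * u3 ^ 2) : False := by
  have h7 : u2 % 7 = 0 ∧ u4 % 7 = 0 := sq7' (x := u2) (y := u4) (by omega)
  have h3 : u2 % 3 = 0 := (sq3 (x := u2) (y := 0) (by omega)).1
  obtain rfl : u2 = 21 := by omega
  obtain ⟨b, rfl⟩ := Nat.dvd_of_mod_eq_zero h7.2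
  obtain ⟨g, rfl⟩ : ∃ g, f = g + 1 := ⟨f - 1, by omega⟩
  obtain rfl : u3 = 7 * b + (g + 1) - u1 - 21 := by omega
  exact a9_chk g (by omega) u1 (by omega) b (by omega) (by omega)

theorem a10 {x1 x2 x3 x4 f : ℕ} (hf0 : 0 < f) (hf : f ≤ 7)
    (hq : 60 * x4 + 483 * f ^ 2 = 160 * x1 + 160 * x2 + 160 * x3) : False := by
  interval_cases f <;> omega

/-! ### The remaining multisets, `|K| = 24` -/

theorem b1_chk : ∀ w < 10, ∀ a < 22,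
    ¬ 10080 + 224 * (5 * w) ^ 2 + 36225 = 480 * a ^ 2 + 315 * (5 * w + 6 - a) ^ 2 := by
  decide +kernel

theorem b1 {u1 u2 u3 u4 : ℕ} (p1 : 0 < u1) (b1 : 22 * u1 ≤ 22)
    (b2 : 22 * u2 ≤ 482) (b4 : 22 * u4 ≤ 1034) (h5 : 5 ∣ u4)
    (hl : u1 + u4 + 5 = u2 + u3)
    (hq : 10080 * u1 ^ 2 + 224 * u4 ^ 2 + 36225 = 480 * u2 ^ 2 + 315 * u3 ^ 2) : False := by
  obtain rfl : u1 = 1 := by omega
  obtain ⟨w, rfl⟩ := h5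
  obtain rfl : u3 = 5 * w + 6 - u2 := by omega
  exact b1_chk w (by omega) u2 (by omega) (by omega)

theorem b2_chk : ∀ w < 26, ∀ a < 34,
    ¬ 1440 + 10 * (a + 5 * w - 6) ^ 2 + 5175 = 45 * a ^ 2 + 12 * (5 * w) ^ 2 := by
  decide +kernel

theorem b2 {u1 u2 u3 u4 : ℕ} (p1 : 0 < u1) (b1 : 22 * u1 ≤ 22)
    (b2 : 22 * u2 ≤ 735) (b3 : 22 * u3 ≤ 2759) (h5 : 5 ∣ u3)
    (hl : u1 + u4 + 5 = u2 + u3)
    (hq : 1440 * u1 ^ 2 + 10 * u4 ^ 2 + 5175 = 45 * u2 ^ 2 + 12 * u3 ^ 2) : False := by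
  obtain rfl : u1 = 1 := by omega
  obtain ⟨w, rfl⟩ := h5
  obtain rfl : u4 = u2 + 5 * w - 6 := by omega
  exact b2_chk w (by omega) u2 (by omega) (by omega)

theorem b3_chk : ∀ w < 67, ∀ a < 59,
    ¬ 13440 + 240 * a ^ 2 + 42 * (5 * w) ^ 2 + 48300 = 35 * (a + 5 * w + 6) ^ 2 := by
  decide +kernel

theorem b3 {u1 u2 u3 u4 : ℕ} (p1 : 0 < u1) (b1 : 22 * u1 ≤ 22)
    (b2 : 22 * u2 ≤ 1287) (b3 : 22 * u3 ≤ 7359) (h5 : 5 ∣ u3)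
    (hl : u1 + u2 + u3 + 5 = u4)
    (hq : 13440 * u1 ^ 2 + 240 * u2 ^ 2 + 42 * u3 ^ 2 + 48300 = 35 * u4 ^ 2) : False := by
  obtain rfl : u1 = 1 := by omega
  obtain ⟨w, rfl⟩ := h5
  obtain rfl : u4 = u2 + 5 * w + 6 := by omega
  exact b3_chk w (by omega) u2 (by omega) (by omega)

theorem b4_chk : ∀ a < 3, ∀ b < 3, ∀ w < 10,
    ¬ 32 * (5 * w) ^ 2 + 5175 =
      144 * (5 * a) ^ 2 + 144 * (5 * b) ^ 2 + 45 * (5 * w + 5 - 5 * a - 5 * b) ^ 2 := by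
  decide +kernel

theorem b4 {u1 u2 u3 u4 : ℕ} (b1 : 22 * u1 ≤ 229) (b2 : 22 * u2 ≤ 229) (b4 : 22 * u4 ≤ 1034)
    (h1 : 5 ∣ u1) (h2 : 5 ∣ u2) (h4 : 5 ∣ u4)
    (hl : u4 + 5 = u1 + u2 + u3)
    (hq : 32 * u4 ^ 2 + 5175 = 144 * u1 ^ 2 + 144 * u2 ^ 2 + 45 * u3 ^ 2) : False := by
  obtain ⟨a, rfl⟩ := h1
  obtain ⟨b, rfl⟩ := h2
  obtain ⟨w, rfl⟩ := h4
  obtain rfl : u3 = 5 * w + 5 - 5 * a - 5 * b := by omega
  exact b4_chk a (by omega) b (by omega) w (by omega) (by omega)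

theorem b8_chk : ∀ w < 10, ∀ a < 13, ∀ b < 34,
    ¬ 120 * a ^ 2 + 32 * (5 * w) ^ 2 + 5175 = 45 * b ^ 2 + 45 * (a + 5 * w + 5 - b) ^ 2 := by
  decide +kernel

theorem b8 {u1 u2 u3 u4 : ℕ} (b1 : 22 * u1 ≤ 275)
    (b2 : 22 * u2 ≤ 735) (b4 : 22 * u4 ≤ 1034) (h4 : 5 ∣ u4)
    (hl : u1 + u4 + 5 = u2 + u3)
    (hq : 120 * u1 ^ 2 + 32 * u4 ^ 2 + 5175 = 45 * u2 ^ 2 + 45 * u3 ^ 2) : False := by
  obtain ⟨w, rfl⟩ := h4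
  obtain rfl : u3 = u1 + 5 * w + 5 - u2 := by omega
  exact b8_chk w (by omega) u1 (by omega) u2 (by omega) (by omega)

theorem b10_chk : ∀ w < 34, ∀ a < 13, ∀ b < 10,
    ¬ 480 * a ^ 2 + 128 * (5 * b) ^ 2 + 18 * (10 * w) ^ 2 + 20700 =
      15 * (a + 5 * b + 10 * w + 5) ^ 2 := by
  decide +kernel

theorem even_of_sq {x : ℕ} (h : x ^ 2 % 2 = 0) : x % 2 = 0 := by
  have hx : x % 2 = 0 ∨ x % 2 = 1 := by omega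
  rw [Nat.pow_mod] at h
  rcases hx with hx | hx
  · exact hx
  · rw [hx] at h; norm_num at h

theorem b10 {u1 u2 u3 u4 : ℕ} (b1 : 22 * u1 ≤ 275)
    (b2 : 22 * u2 ≤ 1034) (b3 : 22 * u3 ≤ 7359) (h2 : 5 ∣ u2) (h3 : 5 ∣ u3)
    (hl : u1 + u2 + u3 + 5 = u4)
    (hq : 480 * u1 ^ 2 + 128 * u2 ^ 2 + 18 * u3 ^ 2 + 20700 = 15 * u4 ^ 2) : False := by
  obtain ⟨b, rfl⟩ := h2
  have h4 : u4 % 2 = 0 := even_of_sq (by omega)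
  have h5 : u3 % 2 = 0 := by
    apply even_of_sq
    obtain ⟨z, rfl⟩ := Nat.dvd_of_mod_eq_zero h4
    have e1 : (2 * z) ^ 2 = 4 * z ^ 2 := by ring
    rw [e1] at hq
    omega
  obtain ⟨w, rfl⟩ : ∃ w, u3 = 10 * w := ⟨u3 / 10, by omega⟩
  obtain rfl : u4 = u1 + 5 * b + 10 * w + 5 := by omega
  exact b10_chk w (by omega) u1 (by omega) b (by omega) (by omega)

theorem b13 {x1 x2 x3 u4 : ℕ}
    (hq : 448 * x1 + 63 * u4 ^ 2 + 72450 = 168 * x2 + 80 * x3) : False := by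
  have h4 : u4 % 2 = 0 := even_of_sq (by omega)
  obtain ⟨z, rfl⟩ := Nat.dvd_of_mod_eq_zero h4
  have e1 : (2 * z) ^ 2 = 4 * z ^ 2 := by ring
  rw [e1] at hq
  omega

end Cfsg.Agent.M24P11.Arith
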