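import Cfsg.Agent.M23.ElevenCommon
import Cfsg.Agent.SporadicA.M24.Adm
import Cfsg.Agent.SmallSimple.BlockIndex

/-!
# Sylow 11-subgroups in a simple group of order `244823040`: common tools
-/

set_option autoImplicit false
set_option linter.unusedSectionVars false

namespace Cfsg.Agent.M24P11.Common

open Cfsg Subgroup Cfsg.Agent.Characters.Core
open Cfsg.Agent.Blocks.Basic (irr_one_eq_charDegree)
open Cfsg.Agent.SmallSimple Cfsg.Agent.SmallSimple.PrimeLocal Cfsg.Agent.M22.NonSelfCent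
open Cfsg.Agent.M23.Block Cfsg.Agent.M23.Adm Cfsg.Agent.SporadicA.M24
open Cfsg.Agent.M23.ElevenCommon (relIndex_eq K_ne_bot)

universe u

variable {G : Type u} [Group G] [Finite G] [IsSimpleGroup G]

theorem card_eleven (hcard : Nat.card G = 244823040) (P : Sylow 11 G) : Nat.card P = 11 := by
  have hp : Fact (Nat.Prime 11) := ⟨by norm_num⟩
  exact card_of_not_sq_dvd (by rw [hcard]; norm_num) (by rw [hcard]; norm_num) P

theorem exists_blk_of_local (hcard : Nat.card G = 244823040) {p e t : ℕ} [Fact p.Prime]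
    (hp2 : p ≠ 2) {P : Sylow p G} (hP : Nat.card P = p) {K : Subgroup G} (h : IsLocal p P e K)
    (ht : e * t = p - 1) :
    ∃ M NE X ε d S, Blk p P e t M NE X ε d S :=
  exists_blk (Sylow23.not_prime hcard) p hp2 P hP e t
    (relIndex_eq (Nat.Prime.pos Fact.out) h) ht

section

variable {e t : ℕ} {P : Sylow 11 G} {M : Ideal AlgInt} {NE X : Finset (IrrCharacter G)}
  {ε : IrrCharacter G → ℤ} {d : ℤ} {S : IrrCharacter G → Finset (P →* ℂˣ)}

/-- Class integrality. -/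
theorem mul_dvd (hcard : Nat.card G = 244823040) {K : Subgroup G} (h : IsLocal 11 P e K)
    (B : Blk 11 P e t M NE X ε d S) {χ : IrrCharacter G} (hχ : χ ∈ NE ∨ χ ∈ X) :
    charDegree (χ : G → ℂ) * (11 * Nat.card K) ∣ 244823040 := by
  have hp : Fact (Nat.Prime 11) := ⟨by norm_num⟩
  rw [← hcard]
  exact BlockIndex.mul_dvd_card B (card_eleven hcard P) h.card_centralizer hχ

/-- All facts about the degree of a nontrivial nonexceptional character of the principal
11-block. -/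
theorem ne_facts (hcard : Nat.card G = 244823040) (P23 : Sylow 23 G)
    {K : Subgroup G} (h : IsLocal 11 P e K) (hK1 : Nat.card K ≠ 1)
    (B : Blk 11 P e t M NE X ε d S)
    {χ : IrrCharacter G} (hχ : χ ∈ NE) (hχ1 : χ ≠ ⟨1, isIrr_one⟩) :
    ∃ (s : ℤ) (a : ℕ), V (P23 : Subgroup G) (χ : G → ℂ) = s ∧
      AdmAt (charDegree (χ : G → ℂ)) s ∧
      charDegree (χ : G → ℂ) * (11 * Nat.card K) ∣ 244823040 ∧
      charDegree (χ : G → ℂ) < 15647 ∧ 2 ≤ a ∧
      ((ε χ = 1 ∧ charDegree (χ : G → ℂ) = 11 * a + 1) ∨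
        (ε χ = -1 ∧ charDegree (χ : G → ℂ) + 1 = 11 * (a + 1))) ∧
      InvVal 11 (χ : G → ℂ) a K := by
  obtain ⟨s, hs1, hs2⟩ := Adm.adm hcard P23 χ
  have hcop : Nat.Coprime 11 (Nat.card K) :=
    (Nat.Prime.coprime_iff_not_dvd (by norm_num)).2 h.not_dvd
  obtain ⟨a, ha, hdeg, hinv⟩ := B.kb.ne_data K h.le_centralizer hcop (K_ne_bot hK1) χ hχ hχ1
  exact ⟨s, a, hs1, hs2, mul_dvd hcard h B (Or.inl hχ), Sylow23.charDegree_lt hcard χ, ha, hdeg,
    hinv⟩

/-- All facts about the degree of an exceptional character of the principal 11-block. -/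
theorem x_facts (hcard : Nat.card G = 244823040) (P23 : Sylow 23 G)
    {K : Subgroup G} (h : IsLocal 11 P e K) (hK1 : Nat.card K ≠ 1)
    (B : Blk 11 P e t M NE X ε d S) {Θ : IrrCharacter G} (hΘ : Θ ∈ X) :
    ∃ (s : ℤ) (a : ℕ), V (P23 : Subgroup G) (Θ : G → ℂ) = s ∧
      AdmAt (charDegree (Θ : G → ℂ)) s ∧
      charDegree (Θ : G → ℂ) * (11 * Nat.card K) ∣ 244823040 ∧
      charDegree (Θ : G → ℂ) < 15647 ∧ 2 ≤ a ∧
      ((d = 1 ∧ charDegree (Θ : G → ℂ) = 11 * a + e) ∨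
        (d = -1 ∧ charDegree (Θ : G → ℂ) + e = 11 * (a + 1))) ∧
      InvVal 11 (Θ : G → ℂ) a K := by
  obtain ⟨s, hs1, hs2⟩ := Adm.adm hcard P23 Θ
  have hcop : Nat.Coprime 11 (Nat.card K) :=
    (Nat.Prime.coprime_iff_not_dvd (by norm_num)).2 h.not_dvd
  obtain ⟨a, ha, hdeg, hinv⟩ := B.kb.x_data K h.le_centralizer hcop (K_ne_bot hK1) Θ hΘ
  exact ⟨s, a, hs1, hs2, mul_dvd hcard h B (Or.inr hΘ), Sylow23.charDegree_lt hcard Θ, ha, hdeg,
    hinv⟩

/-- The relation of the principal 11-block summed over the nontrivial elements of `P₂₃`. -/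
theorem sum_V_eq (hcard : Nat.card G = 244823040) (P23 : Sylow 23 G)
    (B : Blk 11 P e t M NE X ε d S)
    {Θ : IrrCharacter G} (hΘ : Θ ∈ X) {v : IrrCharacter G → ℤ}
    (hv : ∀ χ : IrrCharacter G, V (P23 : Subgroup G) (χ : G → ℂ) = v χ) :
    ∑ χ ∈ NE, ε χ * v χ = d * v Θ := by
  have hP : Nat.card (P23 : Subgroup G) = 23 := Sylow23.card_P hcard P23
  have h1 := sum_V NE (fun χ => (ε χ : ℂ)) (fun χ : IrrCharacter G => (χ : G → ℂ))
    (P23 : Subgroup G) (g := (Θ : G → ℂ)) (d := (d : ℂ)) (fun x hx hx1 => by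
      apply B.kb.rel Θ hΘ x
      have h2 : orderOf x ∣ 23 := by
        have := orderOf_dvd_natCard (⟨x, hx⟩ : (P23 : Subgroup G))
        rw [Subgroup.orderOf_mk, hP] at this
        exact this
      intro h3
      have := h3.trans h2
      revert this
      norm_num)
  rw [hv, Finset.sum_congr rfl fun χ _ => by rw [hv]] at h1
  exact_mod_cast h1

end

theorem v_one (hcard : Nat.card G = 244823040) (P23 : Sylow 23 G) :
    V (P23 : Subgroup G) ((⟨1, isIrr_one⟩ : IrrCharacter G) : G → ℂ) = (22 : ℤ) := by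
  have hP : Nat.card (P23 : Subgroup G) = 23 := Sylow23.card_P hcard P23
  have h := V_const (χ := ((⟨1, isIrr_one⟩ : IrrCharacter G) : G → ℂ)) (P23 : Subgroup G)
    (c := 1) (fun x _ _ => rfl)
  rw [h, hP]
  norm_num

end Cfsg.Agent.M24P11.Common
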