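import Cfsg.Agent.M24P11.Quads
import Cfsg.Agent.M24P11.Common
import Cfsg.Agent.M23.ElevenFive

/-!
# Sylow 11-subgroups in a simple group of order `244823040`: `e = 5`, `|K| = 24, 288`
-/

set_option autoImplicit false
set_option linter.unusedSectionVars false

namespace Cfsg.Agent.M24P11.Five

open Cfsg Subgroup Cfsg.Agent.Characters.Core
open Cfsg.Agent.Blocks.Basic (irr_one_eq_charDegree)
open Cfsg.Agent.SmallSimple Cfsg.Agent.SmallSimple.PrimeLocal Cfsg.Agent.M22.NonSelfCent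
open Cfsg.Agent.M23.Block Cfsg.Agent.M23.Adm Cfsg.Agent.SporadicA.M24
open Cfsg.Agent.M24P11.Common Cfsg.Agent.M24P11.Quads

universe u

/-- Sorting four elements. -/
theorem exists_sorted_four {α : Type*} (T : Finset α) (hT : T.card = 4) (q : α → ℕ) :
    ∃ a ∈ T, ∃ b ∈ T, ∃ c ∈ T, ∃ d ∈ T, q a ≤ q b ∧ q b ≤ q c ∧ q c ≤ q d ∧
      (∀ f : α → ℤ, ∑ x ∈ T, f x = f a + f b + f c + f d) ∧
      (∀ f : α → ℚ, ∑ x ∈ T, f x = f a + f b + f c + f d) := by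
  classical
  let r : α → α → Prop := fun x y => q x ≤ q y
  have hr1 : Std.Total r := ⟨fun x y => le_total (q x) (q y)⟩
  have hr2 : IsTrans α r := ⟨fun x y z h1 h2 => le_trans h1 h2⟩
  set l := T.toList.insertionSort r with hl
  have hperm : l.Perm T.toList := List.perm_insertionSort r _
  have hlen : l.length = 4 := by rw [hperm.length_eq, Finset.length_toList, hT]
  have hsort : l.Pairwise r := List.pairwise_insertionSort r _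
  have hmem : ∀ x ∈ l, x ∈ T := fun x hx => Finset.mem_toList.1 (hperm.mem_iff.1 hx)
  have hsumZ : ∀ f : α → ℤ, ∑ x ∈ T, f x = (l.map f).sum := fun f => by
    rw [(hperm.map f).sum_eq, Finset.sum_map_toList]
  have hsumQ : ∀ f : α → ℚ, ∑ x ∈ T, f x = (l.map f).sum := fun f => by
    rw [(hperm.map f).sum_eq, Finset.sum_map_toList]
  clear_value l
  match l, hlen with
  | [a, b, c, d], _ =>
    simp only [List.pairwise_cons, List.mem_cons, List.not_mem_nil, or_false, forall_eq_or_imp,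
      forall_eq] at hsort
    refine ⟨a, hmem a (by simp), b, hmem b (by simp), c, hmem c (by simp), d, hmem d (by simp),
      hsort.1.1, hsort.2.1.1, hsort.2.2.1, fun f => ?_, fun f => ?_⟩
    · rw [hsumZ]; simp [add_assoc]
    · rw [hsumQ]; simp [add_assoc]

variable {G : Type u} [Group G] [Finite G] [IsSimpleGroup G]
variable {P : Sylow 11 G} {K : Subgroup G} {M : Ideal AlgInt}
  {NE X : Finset (IrrCharacter G)} {ε : IrrCharacter G → ℤ} {d : ℤ}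
  {S : IrrCharacter G → Finset (P →* ℂˣ)} {Θ : IrrCharacter G}

/-- If the degree is divisible by 5 and `t` commutes with an element of order 5, then the value at
the involution `t` is divisible by 5. -/
theorem five_dvd (hcard : Nat.card G = 244823040) (χ : IrrCharacter G)
    (h5 : 5 ∣ charDegree (χ : G → ℂ)) {t y : G} (ht2 : t * t = 1) (ht1 : t ≠ 1)
    (hy : orderOf y = 5) (hty : t * y = y * t) {z : ℤ} (hz : (χ : G → ℂ) t = z) : (5 : ℤ) ∣ z := by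
  have hot : orderOf t = 2 := orderOf_eq_prime (by rw [pow_two]; exact ht2) ht1
  have hcomm : Commute y t := hty.symm
  have hzero : (χ : G → ℂ) (y * t) = ((0 : ℤ) : ℂ) := by
    rw [Int.cast_zero]
    refine KBlock.eq_zero_of_defect_zero χ (r := 5) (n := 1) (by norm_num)
      (by rw [hcard]; norm_num) (by rw [hcard]; norm_num) (by rw [pow_one]; exact h5) ?_
    rw [hcomm.orderOf_mul_eq_mul_orderOf_of_coprime (by rw [hy, hot]; norm_num), hy]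
    exact dvd_mul_right _ _
  have h1 := M23.ElevenFive.dvd_sub_of_ppart (q := 5) (by norm_num) χ.2 hcomm
    ⟨1, by rw [hy]; norm_num⟩ (by rw [hot]; norm_num) hzero hz
  rw [zero_sub] at h1
  exact (Int.dvd_neg).1 h1

theorem sg_eq_one {q : ℕ} (h : q % 11 = 1) : sg q = 1 := if_pos h

theorem sg_eq_neg {q : ℕ} (h : q % 11 ≠ 1) : sg q = -1 := if_neg h

theorem system (hcard : Nat.card G = 244823040) (h : IsLocal 11 P 5 K) (hK1 : Nat.card K ≠ 1)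
    (B : Blk 11 P 5 2 M NE X ε d S) (hΘ : Θ ∈ X)
    (h160 : charDegree (Θ : G → ℂ) = 160) (hd : d = -1) {L : List ℕ}
    (hL : ∀ χ : IrrCharacter G, χ ∈ NE → χ ≠ ⟨1, isIrr_one⟩ →
      ∃ q ∈ L, charDegree (χ : G → ℂ) = 23 * q)
    {t : G} (ht : t ∈ K) (ht2 : t * t = 1) (ht1 : t ≠ 1) :
    ∃ q1 ∈ L, ∃ q2 ∈ L, ∃ q3 ∈ L, ∃ q4 ∈ L, ∃ u1 u2 u3 u4 f : ℕ,
      q1 ≤ q2 ∧ q2 ≤ q3 ∧ q3 ≤ q4 ∧
      pos q1 + pos q2 + pos q3 + pos q4 + 7 = neg q1 + neg q2 + neg q3 + neg q4 ∧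
      0 < f ∧ f ≤ 7 ∧ 0 < u1 ∧ 0 < u2 ∧ 0 < u3 ∧
      22 * u1 + 1 ≤ 23 * q1 ∧ 22 * u2 + 1 ≤ 23 * q2 ∧ 22 * u3 + 1 ≤ 23 * q3 ∧
      22 * u4 + 1 ≤ 23 * q4 ∧
      sg q1 * u1 + sg q2 * u2 + sg q3 * u3 + sg q4 * u4 = -f ∧
      (sg q1 : ℚ) * (u1 ^ 2 / q1) + sg q2 * (u2 ^ 2 / q2) + sg q3 * (u3 ^ 2 / q3) +
        sg q4 * (u4 ^ 2 / q4) = -(23 * f ^ 2 / 160) ∧
      ((∃ y : G, orderOf y = 5 ∧ t * y = y * t) → (5 ∣ q1 → 5 ∣ u1) ∧ (5 ∣ q2 → 5 ∣ u2) ∧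
        (5 ∣ q3 → 5 ∣ u3) ∧ (5 ∣ q4 → 5 ∣ u4) ∧ 5 ∣ f) := by
  classical
  have hp : Fact (Nat.Prime 11) := ⟨by norm_num⟩
  have hP := card_eleven hcard P
  let P23 : Sylow 23 G := default
  subst hd
  have hot : orderOf t = 2 := orderOf_eq_prime (by rw [pow_two]; exact ht2) ht1
  have h11 : ¬ 11 ∣ orderOf t := by rw [hot]; norm_num
  -- the exceptional character
  obtain ⟨f, hf0, hf7, hΘt⟩ : ∃ f : ℕ, 0 < f ∧ f ≤ 7 ∧ (Θ : G → ℂ) t = ((160 - 44 * f : ℤ) : ℂ) := by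
    obtain ⟨s, a, -, -, -, -, -, hdeg, hinv⟩ := x_facts hcard P23 h hK1 B hΘ
    obtain ⟨m, hm0, hma, hm⟩ := hinv t ht ht2 ht1
    rw [h160] at hdeg hm
    refine ⟨m, hm0, by omega, ?_⟩
    rw [hm]; push_cast; ring
  -- the nonexceptional characters
  have hL' : ∀ χ : IrrCharacter G, ∃ q : ℕ, χ ∈ NE → χ ≠ ⟨1, isIrr_one⟩ →
      q ∈ L ∧ charDegree (χ : G → ℂ) = 23 * q := by
    intro χ
    by_cases hχ : χ ∈ NE ∧ χ ≠ ⟨1, isIrr_one⟩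
    · obtain ⟨q, h1, h2⟩ := hL χ hχ.1 hχ.2
      exact ⟨q, fun _ _ => ⟨h1, h2⟩⟩
    · exact ⟨0, fun h1 h2 => (hχ ⟨h1, h2⟩).elim⟩
  choose qf hqf using hL'
  have hu : ∀ χ : IrrCharacter G, ∃ m : ℕ, χ ∈ NE → χ ≠ ⟨1, isIrr_one⟩ →
      0 < m ∧ 22 * m + 1 ≤ 23 * qf χ ∧ ε χ = sg (qf χ) ∧
      (χ : G → ℂ) t = ((23 * qf χ - 44 * m : ℤ) : ℂ) := by
    intro χ
    by_cases hχ : χ ∈ NE ∧ χ ≠ ⟨1, isIrr_one⟩
    · obtain ⟨h1, h2⟩ := hqf χ hχ.1 hχ.2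
      obtain ⟨s, a, -, -, -, -, -, hdeg, hinv⟩ := ne_facts hcard P23 h hK1 B hχ.1 hχ.2
      obtain ⟨m, hm0, hma, hm⟩ := hinv t ht ht2 ht1
      rw [h2] at hdeg hm
      refine ⟨m, fun _ _ => ⟨hm0, by omega, ?_, ?_⟩⟩
      · rcases hdeg with ⟨he, hdeg⟩ | ⟨he, hdeg⟩
        · rw [he, sg_eq_one (by omega)]
        · rw [he, sg_eq_neg (by omega)]
      · rw [hm]; push_cast; ring
    · exact ⟨0, fun h1 h2 => (hχ ⟨h1, h2⟩).elim⟩
  choose uf huf using hu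
  have hT : ∀ χ ∈ NE.erase ⟨1, isIrr_one⟩, χ ∈ NE ∧ χ ≠ ⟨1, isIrr_one⟩ := fun χ hχ =>
    ⟨Finset.mem_of_mem_erase hχ, Finset.ne_of_mem_erase hχ⟩
  have hcardT : (NE.erase ⟨1, isIrr_one⟩).card = 4 := by
    rw [Finset.card_erase_of_mem B.kb.one_mem, B.kb.card_NE]
  -- degrees
  have r0 : ∑ χ ∈ NE.erase ⟨1, isIrr_one⟩, sg (qf χ) * (qf χ : ℤ) = -7 := by
    have h1 := B.kb.rel_one Θ hΘ
    rw [← Finset.add_sum_erase _ _ B.kb.one_mem, B.kb.eps_one, h160] at h1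
    have h2 : ∑ χ ∈ NE.erase ⟨1, isIrr_one⟩, ε χ * (charDegree (χ : G → ℂ) : ℤ) =
        23 * ∑ χ ∈ NE.erase ⟨1, isIrr_one⟩, sg (qf χ) * (qf χ : ℤ) := by
      rw [Finset.mul_sum]
      refine Finset.sum_congr rfl fun χ hχ => ?_
      obtain ⟨h3, h4⟩ := hT χ hχ
      rw [(hqf χ h3 h4).2, (huf χ h3 h4).2.2.1]
      push_cast; ring
    have h3 : (charDegree ((⟨1, isIrr_one⟩ : IrrCharacter G) : G → ℂ) : ℤ) = 1 := by
      have h4 := irr_one_eq_charDegree (⟨1, isIrr_one⟩ : IrrCharacter G).2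
      have h5 : ((⟨1, isIrr_one⟩ : IrrCharacter G) : G → ℂ) 1 = 1 := rfl
      rw [h5] at h4
      exact_mod_cast h4.symm
    rw [h2, h3] at h1
    push_cast at h1
    omega
  -- values
  have r1 : ∑ χ ∈ NE.erase ⟨1, isIrr_one⟩, sg (qf χ) * (uf χ : ℤ) = -f := by
    have h1 := B.kb.rel Θ hΘ t h11
    rw [← Finset.add_sum_erase _ _ B.kb.one_mem, B.kb.eps_one, hΘt] at h1
    have h2 : ∑ χ ∈ NE.erase ⟨1, isIrr_one⟩, (ε χ : ℂ) * (χ : G → ℂ) t =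
        ((23 * ∑ χ ∈ NE.erase ⟨1, isIrr_one⟩, sg (qf χ) * (qf χ : ℤ) -
          44 * ∑ χ ∈ NE.erase ⟨1, isIrr_one⟩, sg (qf χ) * (uf χ : ℤ) : ℤ) : ℂ) := by
      rw [Finset.mul_sum, Finset.mul_sum, ← Finset.sum_sub_distrib, Int.cast_sum]
      refine Finset.sum_congr rfl fun χ hχ => ?_
      obtain ⟨h3, h4⟩ := hT χ hχ
      rw [(huf χ h3 h4).2.2.2, (huf χ h3 h4).2.2.1]
      push_cast; ring
    have h5 : ((⟨1, isIrr_one⟩ : IrrCharacter G) : G → ℂ) t = 1 := rfl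
    rw [h2, h5, r0] at h1
    have h6 : (1 : ℤ) * 1 + (23 * (-7) -
        44 * ∑ χ ∈ NE.erase ⟨1, isIrr_one⟩, sg (qf χ) * (uf χ : ℤ)) = -1 * (160 - 44 * f) := by
      exact_mod_cast h1
    omega
  have r2 : ∑ χ ∈ NE.erase ⟨1, isIrr_one⟩, (sg (qf χ) : ℚ) * ((uf χ : ℚ) ^ 2 / qf χ) =
      -(23 * f ^ 2 / 160) := by
    have h1 := BlockIndex.sum_eq_of_odd B hP (by norm_num) h (by decide) hΘ ht2 ht2
    rw [← Finset.add_sum_erase _ _ B.kb.one_mem, B.kb.eps_one, hΘt, irr_one_eq_charDegree Θ.2,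
      h160] at h1
    have h2 : ∑ χ ∈ NE.erase ⟨1, isIrr_one⟩,
        (ε χ : ℂ) * ((χ : G → ℂ) t * (χ : G → ℂ) t / (χ : G → ℂ) 1) =
        ((23 * ∑ χ ∈ NE.erase ⟨1, isIrr_one⟩, (sg (qf χ) : ℚ) * (qf χ : ℚ) -
          88 * ∑ χ ∈ NE.erase ⟨1, isIrr_one⟩, (sg (qf χ) : ℚ) * (uf χ : ℚ) +
          1936 / 23 * ∑ χ ∈ NE.erase ⟨1, isIrr_one⟩,
            (sg (qf χ) : ℚ) * ((uf χ : ℚ) ^ 2 / qf χ) : ℚ) : ℂ) := by
      rw [Finset.mul_sum, Finset.mul_sum, Finset.mul_sum, ← Finset.sum_sub_distrib,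
        ← Finset.sum_add_distrib, Rat.cast_sum]
      refine Finset.sum_congr rfl fun χ hχ => ?_
      obtain ⟨h3, h4⟩ := hT χ hχ
      obtain ⟨h5, h6, h7, h8⟩ := huf χ h3 h4
      have h9 : (qf χ : ℂ) ≠ 0 := by
        have : qf χ ≠ 0 := by omega
        exact_mod_cast this
      rw [h8, h7, irr_one_eq_charDegree χ.2, (hqf χ h3 h4).2]
      push_cast
      field_simp
      ring
    have h5 : ((⟨1, isIrr_one⟩ : IrrCharacter G) : G → ℂ) t = 1 := rfl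
    have h6 : ((⟨1, isIrr_one⟩ : IrrCharacter G) : G → ℂ) 1 = 1 := rfl
    have r0' : ∑ χ ∈ NE.erase ⟨1, isIrr_one⟩, (sg (qf χ) : ℚ) * (qf χ : ℚ) = -7 := by
      exact_mod_cast r0
    have r1' : ∑ χ ∈ NE.erase ⟨1, isIrr_one⟩, (sg (qf χ) : ℚ) * (uf χ : ℚ) = -f := by
      exact_mod_cast r1
    rw [h2, h5, h6, r0', r1'] at h1
    generalize ∑ χ ∈ NE.erase ⟨1, isIrr_one⟩, (sg (qf χ) : ℚ) * ((uf χ : ℚ) ^ 2 / qf χ) = s at h1 ⊢
    have h7 : (1 : ℚ) * (1 * 1 / 1) + (23 * (-7) - 88 * (-f) + 1936 / 23 * s) =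
        (-1) * ((160 - 44 * f) * (160 - 44 * f) / 160) := by
      have h8 : (((1 : ℚ) * (1 * 1 / 1) + (23 * (-7) - 88 * (-f) + 1936 / 23 * s) : ℚ) : ℂ) =
          (((-1) * ((160 - 44 * f) * (160 - 44 * f) / 160) : ℚ) : ℂ) := by
        push_cast
        push_cast at h1
        exact h1
      exact_mod_cast h8
    linarith
  obtain ⟨χ1, m1, χ2, m2, χ3, m3, χ4, m4, s1, s2, s3, hZ, hQ⟩ :=
    exists_sorted_four (NE.erase ⟨1, isIrr_one⟩) hcardT qf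
  rw [hZ] at r0 r1
  rw [hQ] at r2
  obtain ⟨n1, k1⟩ := hT χ1 m1
  obtain ⟨n2, k2⟩ := hT χ2 m2
  obtain ⟨n3, k3⟩ := hT χ3 m3
  obtain ⟨n4, k4⟩ := hT χ4 m4
  have e1 := huf χ1 n1 k1
  have e2 := huf χ2 n2 k2
  have e3 := huf χ3 n3 k3
  have e4 := huf χ4 n4 k4
  refine ⟨qf χ1, (hqf χ1 n1 k1).1, qf χ2, (hqf χ2 n2 k2).1, qf χ3, (hqf χ3 n3 k3).1,
    qf χ4, (hqf χ4 n4 k4).1, uf χ1, uf χ2, uf χ3, uf χ4, f, s1, s2, s3, ?_, hf0, hf7, e1.1, e2.1,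
    e3.1, e1.2.1, e2.2.1, e3.2.1, e4.2.1, r1, r2, ?_⟩
  · rw [← pos_sub_neg, ← pos_sub_neg, ← pos_sub_neg, ← pos_sub_neg] at r0
    omega
  · rintro ⟨y, hy, hty⟩
    have key : ∀ χ : IrrCharacter G, χ ∈ NE → χ ≠ ⟨1, isIrr_one⟩ → 5 ∣ qf χ → 5 ∣ uf χ := by
      intro χ h1 h2 h5
      have h3 := five_dvd hcard χ (by rw [(hqf χ h1 h2).2]; exact h5.mul_left 23) ht2 ht1 hy hty
        (huf χ h1 h2).2.2.2
      omega
    have h3 := five_dvd hcard Θ (by rw [h160]; norm_num) ht2 ht1 hy hty hΘt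
    exact ⟨key χ1 n1 k1, key χ2 n2 k2, key χ3 n3 k3, key χ4 n4 k4, by omega⟩

end Cfsg.Agent.M24P11.Five
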