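import Cfsg.Agent.M24P11.Arith

/-!
# The multisets of degrees of the principal 11-block, `e = 5`, order `244823040`
-/

set_option autoImplicit false

namespace Cfsg.Agent.M24P11.Quads

open Cfsg.Agent.M24P11.Arith

/-- The degrees divided by 23, `|K| = 24`. -/
def L24 : List ℕ := [1, 10, 12, 21, 32, 45, 56, 120, 144, 210, 252, 320, 384, 560, 672]

/-- The degrees divided by 23, `|K| = 288`. -/
def L288 : List ℕ := [1, 10, 12, 21, 32, 56, 120, 210, 560, 672]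

/-- The positive part. -/
def pos (q : ℕ) : ℕ := bif Nat.beq (q % 11) 1 then q else 0

/-- The negative part. -/
def neg (q : ℕ) : ℕ := bif Nat.beq (q % 11) 1 then 0 else q

/-- The sign. -/
def sg (q : ℕ) : ℤ := if q % 11 = 1 then 1 else -1

theorem pos_sub_neg (q : ℕ) : (pos q : ℤ) - neg q = sg q * q := by
  unfold pos neg sg
  by_cases h : q % 11 = 1
  · rw [if_pos h, h]; simp
  · rw [if_neg h]
    have : Nat.beq (q % 11) 1 = false := by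
      rw [Bool.eq_false_iff]
      exact fun h' => h (Nat.eq_of_beq_eq_true h')
    rw [this]; simp

def Q288 : List (ℕ × ℕ × ℕ × ℕ) :=
  [(1, 1, 1, 10), (1, 1, 12, 21), (1, 10, 10, 12), (1, 12, 12, 32), (1, 32, 32, 56),
    (1, 56, 56, 120), (1, 120, 560, 672), (10, 12, 12, 21), (10, 21, 32, 56), (21, 21, 21, 56)]

def Q24 : List (ℕ × ℕ × ℕ × ℕ) :=
  [(1, 21, 32, 45), (1, 32, 120, 144), (1, 56, 320, 384), (10, 10, 32, 45), (10, 21, 21, 45),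
    (10, 21, 120, 144), (10, 45, 210, 252), (12, 32, 32, 45), (12, 45, 56, 120),
    (12, 45, 320, 384), (21, 56, 210, 252), (45, 56, 144, 252), (45, 120, 252, 320)]

set_option maxRecDepth 100000 in
theorem quads24 : ∀ a ∈ L24, ∀ b ∈ L24, a ≤ b → ∀ c ∈ L24, b ≤ c → ∀ d ∈ L24, c ≤ d →
    pos a + pos b + pos c + pos d + 7 = neg a + neg b + neg c + neg d →
    (a, b, c, d) ∈ Q288 ∨ (a, b, c, d) ∈ Q24 := by
  decide +kernel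

set_option maxRecDepth 100000 in
theorem quads288 : ∀ a ∈ L288, ∀ b ∈ L288, a ≤ b → ∀ c ∈ L288, b ≤ c → ∀ d ∈ L288, c ≤ d →
    pos a + pos b + pos c + pos d + 7 = neg a + neg b + neg c + neg d →
    (a, b, c, d) ∈ Q288 := by
  decide +kernel

/-- The ten multisets which occur for `|K| = 288`. -/
theorem false_of_Q288 {q1 q2 q3 q4 u1 u2 u3 u4 f : ℕ} (hmem : (q1, q2, q3, q4) ∈ Q288)
    (hf0 : 0 < f) (hf : f ≤ 7)
    (p1 : 0 < u1) (p2 : 0 < u2) (p3 : 0 < u3)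
    (b1 : 22 * u1 + 1 ≤ 23 * q1) (b2 : 22 * u2 + 1 ≤ 23 * q2)
    (b3 : 22 * u3 + 1 ≤ 23 * q3) (b4 : 22 * u4 + 1 ≤ 23 * q4)
    (hl : sg q1 * u1 + sg q2 * u2 + sg q3 * u3 + sg q4 * u4 = -f)
    (hr : (sg q1 : ℚ) * (u1 ^ 2 / q1) + sg q2 * (u2 ^ 2 / q2) + sg q3 * (u3 ^ 2 / q3) +
      sg q4 * (u4 ^ 2 / q4) = -(23 * f ^ 2 / 160)) : False := by
  simp only [Q288, List.mem_cons, Prod.mk.injEq, List.not_mem_nil, or_false] at hmem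
  rcases hmem with ⟨rfl, rfl, rfl, rfl⟩ | ⟨rfl, rfl, rfl, rfl⟩ | ⟨rfl, rfl, rfl, rfl⟩ |
    ⟨rfl, rfl, rfl, rfl⟩ | ⟨rfl, rfl, rfl, rfl⟩ | ⟨rfl, rfl, rfl, rfl⟩ | ⟨rfl, rfl, rfl, rfl⟩ |
    ⟨rfl, rfl, rfl, rfl⟩ | ⟨rfl, rfl, rfl, rfl⟩ | ⟨rfl, rfl, rfl, rfl⟩ <;>
    norm_num [sg] at hl hr
  · refine a1 (u1 := u1) (u2 := u2) (u3 := u3) (u4 := u4) hf0 hf p1 (by omega) p2 (by omega)
      p3 (by omega) (by omega) ?_
    have : ((160 * u1 ^ 2 + 160 * u2 ^ 2 + 160 * u3 ^ 2 + 23 * f ^ 2 : ℕ) : ℚ) =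
      ((16 * u4 ^ 2 : ℕ) : ℚ) := by push_cast; linarith
    exact_mod_cast this
  · refine a2 (x1 := u1 ^ 2) (x2 := u2 ^ 2) (x3 := u3 ^ 2) (x4 := u4 ^ 2) hf0 hf ?_
    have : ((3360 * u1 ^ 2 + 3360 * u2 ^ 2 + 280 * u3 ^ 2 + 483 * f ^ 2 : ℕ) : ℚ) =
      ((160 * u4 ^ 2 : ℕ) : ℚ) := by push_cast; linarith
    exact_mod_cast this
  · refine a3 (u1 := u1) (u2 := u2) (u3 := u3) (u4 := u4) hf0 hf p1 (by omega) (by omega)
      (by omega) (by omega) ?_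
    have : ((480 * u1 ^ 2 + 40 * u4 ^ 2 + 69 * f ^ 2 : ℕ) : ℚ) =
      ((48 * u2 ^ 2 + 48 * u3 ^ 2 : ℕ) : ℚ) := by push_cast; linarith
    exact_mod_cast this
  · refine a4 (u1 := u1) (u2 := u2) (u3 := u3) (u4 := u4) hf0 hf p1 (by omega) (by omega)
      (by omega) (by omega) ?_
    have : ((480 * u1 ^ 2 + 40 * u2 ^ 2 + 40 * u3 ^ 2 + 69 * f ^ 2 : ℕ) : ℚ) =
      ((15 * u4 ^ 2 : ℕ) : ℚ) := by push_cast; linarith
    exact_mod_cast this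
  · refine a5 (u1 := u1) (u2 := u2) (u3 := u3) (u4 := u4) hf0 hf p1 (by omega) (by omega)
      (by omega) (by omega) ?_
    have : ((1120 * u1 ^ 2 + 20 * u4 ^ 2 + 161 * f ^ 2 : ℕ) : ℚ) =
      ((35 * u2 ^ 2 + 35 * u3 ^ 2 : ℕ) : ℚ) := by push_cast; linarith
    exact_mod_cast this
  · refine a6 (u1 := u1) (u2 := u2) (u3 := u3) (u4 := u4) hf0 hf p1 (by omega) (by omega)
      (by omega) (by omega) ?_
    have : ((3360 * u1 ^ 2 + 60 * u2 ^ 2 + 60 * u3 ^ 2 + 483 * f ^ 2 : ℕ) : ℚ) =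
      ((28 * u4 ^ 2 : ℕ) : ℚ) := by push_cast; linarith
    exact_mod_cast this
  · refine a7 (u1 := u1) (u2 := u2) (u3 := u3) (u4 := u4) hf0 hf p1 (by omega) (by omega)
      (by omega) (by omega) ?_
    have : ((3360 * u1 ^ 2 + 5 * u4 ^ 2 + 483 * f ^ 2 : ℕ) : ℚ) =
      ((28 * u2 ^ 2 + 6 * u3 ^ 2 : ℕ) : ℚ) := by push_cast; linarith
    exact_mod_cast this
  · refine a8 (u1 := u1) (u2 := u2) (u3 := u3) (u4 := u4) hf0 hf (by omega) (by omega)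
      (by omega) (by omega) ?_
    have : ((280 * u2 ^ 2 + 280 * u3 ^ 2 + 483 * f ^ 2 : ℕ) : ℚ) =
      ((336 * u1 ^ 2 + 160 * u4 ^ 2 : ℕ) : ℚ) := by push_cast; linarith
    exact_mod_cast this
  · refine a9 (u1 := u1) (u2 := u2) (u3 := u3) (u4 := u4) hf0 hf (by omega) p2 (by omega)
      (by omega) (by omega) ?_
    have : ((60 * u4 ^ 2 + 483 * f ^ 2 : ℕ) : ℚ) =
      ((336 * u1 ^ 2 + 160 * u2 ^ 2 + 105 * u3 ^ 2 : ℕ) : ℚ) := by push_cast; linarith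
    exact_mod_cast this
  · refine a10 (x1 := u1 ^ 2) (x2 := u2 ^ 2) (x3 := u3 ^ 2) (x4 := u4 ^ 2) hf0 hf ?_
    have : ((60 * u4 ^ 2 + 483 * f ^ 2 : ℕ) : ℚ) =
      ((160 * u1 ^ 2 + 160 * u2 ^ 2 + 160 * u3 ^ 2 : ℕ) : ℚ) := by push_cast; linarith
    exact_mod_cast this

/-- The thirteen further multisets which occur for `|K| = 24`. -/
theorem false_of_Q24 {q1 q2 q3 q4 u1 u2 u3 u4 : ℕ} (hmem : (q1, q2, q3, q4) ∈ Q24)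
    (p1 : 0 < u1)
    (b1 : 22 * u1 + 1 ≤ 23 * q1) (b2 : 22 * u2 + 1 ≤ 23 * q2)
    (b3 : 22 * u3 + 1 ≤ 23 * q3) (b4 : 22 * u4 + 1 ≤ 23 * q4)
    (f1 : 5 ∣ q1 → 5 ∣ u1) (f2 : 5 ∣ q2 → 5 ∣ u2) (f3 : 5 ∣ q3 → 5 ∣ u3)
    (f4 : 5 ∣ q4 → 5 ∣ u4)
    (hl : sg q1 * u1 + sg q2 * u2 + sg q3 * u3 + sg q4 * u4 = -5)
    (hr : (sg q1 : ℚ) * (u1 ^ 2 / q1) + sg q2 * (u2 ^ 2 / q2) + sg q3 * (u3 ^ 2 / q3) +
      sg q4 * (u4 ^ 2 / q4) = -(23 * 5 ^ 2 / 160)) : False := by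
  simp only [Q24, List.mem_cons, Prod.mk.injEq, List.not_mem_nil, or_false] at hmem
  rcases hmem with ⟨rfl, rfl, rfl, rfl⟩ | ⟨rfl, rfl, rfl, rfl⟩ | ⟨rfl, rfl, rfl, rfl⟩ |
    ⟨rfl, rfl, rfl, rfl⟩ | ⟨rfl, rfl, rfl, rfl⟩ | ⟨rfl, rfl, rfl, rfl⟩ | ⟨rfl, rfl, rfl, rfl⟩ |
    ⟨rfl, rfl, rfl, rfl⟩ | ⟨rfl, rfl, rfl, rfl⟩ | ⟨rfl, rfl, rfl, rfl⟩ | ⟨rfl, rfl, rfl, rfl⟩ |
    ⟨rfl, rfl, rfl, rfl⟩ | ⟨rfl, rfl, rfl, rfl⟩ <;>
    norm_num [sg] at hl hr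
  · refine Arith.b1 (u1 := u1) (u2 := u2) (u3 := u3) (u4 := u4) p1 (by omega) (by omega)
      (by omega) (f4 (by norm_num)) (by omega) ?_
    have : ((10080 * u1 ^ 2 + 224 * u4 ^ 2 + 36225 : ℕ) : ℚ) =
      ((480 * u2 ^ 2 + 315 * u3 ^ 2 : ℕ) : ℚ) := by push_cast; linarith
    exact_mod_cast this
  · refine Arith.b2 (u1 := u1) (u2 := u2) (u3 := u3) (u4 := u4) p1 (by omega) (by omega)
      (by omega) (f3 (by norm_num)) (by omega) ?_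
    have : ((1440 * u1 ^ 2 + 10 * u4 ^ 2 + 5175 : ℕ) : ℚ) =
      ((45 * u2 ^ 2 + 12 * u3 ^ 2 : ℕ) : ℚ) := by push_cast; linarith
    exact_mod_cast this
  · refine Arith.b3 (u1 := u1) (u2 := u2) (u3 := u3) (u4 := u4) p1 (by omega) (by omega)
      (by omega) (f3 (by norm_num)) (by omega) ?_
    have : ((13440 * u1 ^ 2 + 240 * u2 ^ 2 + 42 * u3 ^ 2 + 48300 : ℕ) : ℚ) =
      ((35 * u4 ^ 2 : ℕ) : ℚ) := by push_cast; linarith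
    exact_mod_cast this
  · refine Arith.b4 (u1 := u1) (u2 := u2) (u3 := u3) (u4 := u4) (by omega) (by omega)
      (by omega) (f1 (by norm_num)) (f2 (by norm_num)) (f4 (by norm_num)) (by omega) ?_
    have : ((32 * u4 ^ 2 + 5175 : ℕ) : ℚ) =
      ((144 * u1 ^ 2 + 144 * u2 ^ 2 + 45 * u3 ^ 2 : ℕ) : ℚ) := by push_cast; linarith
    exact_mod_cast this
  · have : ((224 * u4 ^ 2 + 36225 : ℕ) : ℚ) =
      ((1008 * u1 ^ 2 + 480 * u2 ^ 2 + 480 * u3 ^ 2 : ℕ) : ℚ) := by push_cast; linarith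
    have h1 : 224 * u4 ^ 2 + 36225 = 1008 * u1 ^ 2 + 480 * u2 ^ 2 + 480 * u3 ^ 2 := by
      exact_mod_cast this
    omega
  · have : ((70 * u4 ^ 2 + 36225 : ℕ) : ℚ) =
      ((1008 * u1 ^ 2 + 480 * u2 ^ 2 + 84 * u3 ^ 2 : ℕ) : ℚ) := by push_cast; linarith
    have h1 : 70 * u4 ^ 2 + 36225 = 1008 * u1 ^ 2 + 480 * u2 ^ 2 + 84 * u3 ^ 2 := by
      exact_mod_cast this
    omega
  · have : ((224 * u2 ^ 2 + 48 * u3 ^ 2 + 36225 : ℕ) : ℚ) =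
      ((1008 * u1 ^ 2 + 40 * u4 ^ 2 : ℕ) : ℚ) := by push_cast; linarith
    have h1 : 224 * u2 ^ 2 + 48 * u3 ^ 2 + 36225 = 1008 * u1 ^ 2 + 40 * u4 ^ 2 := by
      exact_mod_cast this
    omega
  · refine Arith.b8 (u1 := u1) (u2 := u2) (u3 := u3) (u4 := u4) (by omega) (by omega)
      (by omega) (f4 (by norm_num)) (by omega) ?_
    have : ((120 * u1 ^ 2 + 32 * u4 ^ 2 + 5175 : ℕ) : ℚ) =
      ((45 * u2 ^ 2 + 45 * u3 ^ 2 : ℕ) : ℚ) := by push_cast; linarith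
    exact_mod_cast this
  · have : ((840 * u1 ^ 2 + 224 * u2 ^ 2 + 180 * u3 ^ 2 + 36225 : ℕ) : ℚ) =
      ((84 * u4 ^ 2 : ℕ) : ℚ) := by push_cast; linarith
    have h1 : 840 * u1 ^ 2 + 224 * u2 ^ 2 + 180 * u3 ^ 2 + 36225 = 84 * u4 ^ 2 := by
      exact_mod_cast this
    omega
  · refine Arith.b10 (u1 := u1) (u2 := u2) (u3 := u3) (u4 := u4) (by omega) (by omega)
      (by omega) (f2 (by norm_num)) (f3 (by norm_num)) (by omega) ?_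
    have : ((480 * u1 ^ 2 + 128 * u2 ^ 2 + 18 * u3 ^ 2 + 20700 : ℕ) : ℚ) =
      ((15 * u4 ^ 2 : ℕ) : ℚ) := by push_cast; linarith
    exact_mod_cast this
  · have : ((180 * u2 ^ 2 + 48 * u3 ^ 2 + 36225 : ℕ) : ℚ) =
      ((480 * u1 ^ 2 + 40 * u4 ^ 2 : ℕ) : ℚ) := by push_cast; linarith
    have h1 : 180 * u2 ^ 2 + 48 * u3 ^ 2 + 36225 = 480 * u1 ^ 2 + 40 * u4 ^ 2 := by
      exact_mod_cast this
    omega
  · have : ((224 * u1 ^ 2 + 180 * u2 ^ 2 + 70 * u3 ^ 2 + 36225 : ℕ) : ℚ) =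
      ((40 * u4 ^ 2 : ℕ) : ℚ) := by push_cast; linarith
    have h1 : 224 * u1 ^ 2 + 180 * u2 ^ 2 + 70 * u3 ^ 2 + 36225 = 40 * u4 ^ 2 := by
      exact_mod_cast this
    omega
  · refine Arith.b13 (x1 := u1 ^ 2) (x2 := u2 ^ 2) (x3 := u3 ^ 2) (u4 := u4) ?_
    have : ((448 * u1 ^ 2 + 63 * u4 ^ 2 + 72450 : ℕ) : ℚ) =
      ((168 * u2 ^ 2 + 80 * u3 ^ 2 : ℕ) : ℚ) := by push_cast; linarith
    exact_mod_cast this

end Cfsg.Agent.M24P11.Quads
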